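import Groth.Agent.SGA3Union.MatrixCorep
import Groth.Prelude.Def_ComodSub
import Groth.Agent.HopfLib.Comod

/-! Finite subcomodules over flat coalgebras, coefficient matrices of finite projective comodules. -/

universe u

open TensorProduct Coalgebra HopfRep

namespace Groth.Agent.SGA3Union

variable {R : Type u} [CommRing R] {A : Type u} [AddCommGroup A] [Module R A] [Coalgebra R A]
  {V : Type u} [AddCommGroup V] [Module R V]

theorem exists_fg_isSubcomod [IsNoetherianRing R] [Module.Flat R A] [Comod R A V] (F : Finset V) :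
    ∃ W : Submodule R V, W.FG ∧ (↑F : Set V) ⊆ W ∧ IsSubcomod (k := R) (A := A) W := by
  classical
  choose S hS using fun v : V => TensorProduct.exists_finset (R := R) (Comod.coact (k := R) (A := A) v)
  let N : Submodule R V := Submodule.span R ↑((F.biUnion S).image Prod.fst)
  let L : Submodule R (V ⊗[R] A) := LinearMap.range (LinearMap.rTensor A N.subtype)
  let ψ : V →ₗ[R] (V ⊗[R] A) ⧸ L := L.mkQ ∘ₗ Comod.coact
  let W : Submodule R V := LinearMap.ker ψ
  have hW : ∀ x, x ∈ W ↔ Comod.coact (k := R) (A := A) x ∈ L := fun x => by simp [W, ψ]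
  have hWN : W ≤ N := by
    intro x hx
    obtain ⟨t, ht⟩ := (hW x).mp hx
    have h1 := congrArg (TensorProduct.rid R V)
      (LinearMap.congr_fun (Comod.counit_comp (k := R) (A := A) (V := V)) x)
    rw [LinearMap.comp_apply, ← ht, LinearMap.flip_apply, TensorProduct.mk_apply,
      TensorProduct.rid_tmul, one_smul] at h1
    rw [← h1]
    clear ht h1
    induction t using TensorProduct.induction_on with
    | zero => simp
    | tmul a b => simpa using N.smul_mem _ a.2
    | add p q hp hq => simpa only [map_add] using N.add_mem hp hq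
  refine ⟨W, ?_, fun f hf => ?_, fun x hx => ?_⟩
  · have : Module.Finite R N := Module.Finite.iff_fg.mpr (Submodule.fg_span (Finset.finite_toSet _))
    exact Module.Finite.iff_fg.mp
      (Module.Finite.of_injective (Submodule.inclusion hWN) (Submodule.inclusion_injective hWN))
  · refine (hW f).mpr ?_
    rw [hS f]
    refine Submodule.sum_mem _ fun i hi => ⟨⟨i.1, Submodule.subset_span ?_⟩ ⊗ₜ i.2, rfl⟩
    simp only [Finset.coe_image, Set.mem_image, Finset.mem_coe, Finset.mem_biUnion]
    exact ⟨i, ⟨f, hf, hi⟩, rfl⟩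
  · have hex : Function.Exact W.subtype ψ := LinearMap.exact_subtype_ker_map ψ
    rw [← LinearMap.exact_iff.mp (Module.Flat.rTensor_exact A hex), LinearMap.mem_ker]
    obtain ⟨t, ht⟩ := (hW x).mp hx
    have hco : LinearMap.rTensor A Comod.coact (Comod.coact (k := R) (A := A) x) =
        (TensorProduct.assoc R V A A).symm (LinearMap.lTensor V comul (Comod.coact (k := R) (A := A) x)) := by
      rw [LinearEquiv.eq_symm_apply]
      exact LinearMap.congr_fun (Comod.coassoc (k := R) (A := A) (V := V)) x
    rw [LinearMap.rTensor_comp, LinearMap.comp_apply, hco, ← ht]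
    clear ht hco
    induction t using TensorProduct.induction_on with
    | zero => simp
    | tmul a b =>
      simp only [LinearMap.rTensor_tmul, LinearMap.lTensor_tmul]
      generalize comul (R := R) b = z
      induction z using TensorProduct.induction_on with
      | zero => simp
      | tmul c d =>
        simp only [TensorProduct.assoc_symm_tmul, LinearMap.rTensor_tmul]
        rw [show L.mkQ (N.subtype a ⊗ₜ[R] c) = 0 from
          (Submodule.Quotient.mk_eq_zero L).mpr ⟨a ⊗ₜ c, rfl⟩, TensorProduct.zero_tmul]
      | add p q hp hq => simp only [TensorProduct.tmul_add, map_add, hp, hq, add_zero]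
    | add p q hp hq => simp [hp, hq]

/-- Coefficient matrix of a finite projective comodule. -/
theorem exists_coef_matrix [Comod R A V] [Module.Finite R V] [Module.Projective R V] :
    ∃ (d : ℕ) (E : Matrix (Fin d) (Fin d) R) (C : Matrix (Fin d) (Fin d) A),
      (∀ k l, ∑ r, E k r • E r l = E k l) ∧
      (∀ k l, ∑ r, E k r • C r l = C k l) ∧
      (∀ k l, ∑ r, E r l • C k r = C k l) ∧
      (∀ k l, comul (R := R) (C k l) = ∑ r, C k r ⊗ₜ C r l) ∧
      (∀ k l, counit (R := R) (C k l) = E k l) ∧
      ∀ (f : V →ₗ[R] R) (v : V), HopfLib.sliceL f (Comod.coact v) ∈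
        Submodule.span R (Set.range fun p : Fin d × Fin d => C p.1 p.2) := by
  classical
  obtain ⟨d, p, hp⟩ := Module.Finite.exists_fin' R V
  obtain ⟨i, hi⟩ := Module.projective_lifting_property p LinearMap.id hp
  let e : Fin d → V := fun k => p (Pi.single k 1)
  let mu : Fin d → (V →ₗ[R] R) := fun k => LinearMap.proj k ∘ₗ i
  have hbasis : ∀ v, ∑ k, mu k v • e k = v := by
    intro v
    conv_rhs => rw [← LinearMap.id_apply (R := R) v, ← hi, LinearMap.comp_apply,
      pi_eq_sum_univ' (i v), map_sum]
    simp [mu, e]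
  have hdecomp : ∀ t : V ⊗[R] A, ∑ k, e k ⊗ₜ HopfLib.sliceL (mu k) t = t := by
    intro t
    induction t using TensorProduct.induction_on with
    | zero => simp
    | tmul v a =>
      simp only [HopfLib.sliceL_tmul, TensorProduct.tmul_smul, TensorProduct.smul_tmul',
        ← TensorProduct.sum_tmul, hbasis]
    | add x y hx hy => simp [TensorProduct.tmul_add, Finset.sum_add_distrib, hx, hy]
  have hinv : ∀ k v, ∑ r, mu r v * mu k (e r) = mu k v := fun k v => by
    conv_rhs => rw [← hbasis v]
    simp
  let E : Matrix (Fin d) (Fin d) R := fun k l => mu k (e l)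
  let C : Matrix (Fin d) (Fin d) A := fun k l => HopfLib.cf (mu k) (e l)
  have hcC : ∀ l, Comod.coact (k := R) (A := A) (e l) = ∑ k, e k ⊗ₜ C k l := fun l => (hdecomp _).symm
  refine ⟨d, E, C, fun k l => ?_, fun k l => ?_, fun k l => ?_, fun k l => ?_, fun k l => ?_,
    fun f v => ?_⟩
  · simpa [E, mul_comm] using hinv k (e l)
  · conv_rhs => rw [show C k l = HopfLib.sliceL (mu k) (Comod.coact (e l)) from rfl, hcC l]
    simp [map_sum, E]
  · conv_rhs => rw [show C k l = HopfLib.cf (mu k) (e l) from rfl, ← hbasis (e l)]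
    simp [map_sum, E, C]
  · conv_lhs => rw [show C k l = HopfLib.cf (mu k) (e l) from rfl]
    rw [HopfLib.sliceL_coact_comul (mu k) (e l), hcC]
    simp [map_sum, C, HopfLib.cf_apply]
  · exact HopfLib.counit_cf (mu k) (e l)
  · rw [← hbasis v]
    simp only [map_sum, map_smul, hcC, HopfLib.sliceL_tmul]
    exact Submodule.sum_mem _ fun l _ => Submodule.smul_mem _ _ (Submodule.sum_mem _ fun k _ =>
      Submodule.smul_mem _ _ (Submodule.subset_span ⟨(k, l), rfl⟩))

end Groth.Agent.SGA3Union
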