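import Groth.Agent.PBWLib.Basic
import Groth.Agent.HopfLib.ComodModule
import Groth.Prelude.Def_SGA3y
import Mathlib.RingTheory.Coalgebra.Convolution
import Mathlib.RingTheory.Finiteness.Nakayama
import Mathlib.LinearAlgebra.FiniteDimensional.Basic
import Mathlib.Data.Finsupp.Antidiagonal
import Mathlib.Data.Finsupp.Multiset
import Mathlib.LinearAlgebra.TensorProduct.Basis
import Mathlib.Data.Nat.Choose.Basic

/-! The theorem of Cartier, Milnor–Moore: a connected cocommutative bialgebra in characteristic
zero is the enveloping algebra of its primitive elements. -/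

universe u

open TensorProduct Coalgebra HopfRep WithConv
open scoped Groth.Agent.HopfLib

namespace Groth.Agent.SGA3Union.CMM

attribute [local instance] LieRing.ofAssociativeRing

variable {k : Type u} [Field k] {H : Type u} [Ring H] [Bialgebra k H]

local notation "F" => Groth.Agent.HopfLib.FormAlg k H

theorem conv_apply (g h : F) (x : H) :
    (g * h).ofConv x = LinearMap.mul' k k (TensorProduct.map g.ofConv h.ofConv (comul x)) := rfl

/-- Reduced comultiplication. -/
noncomputable def red : H →ₗ[k] H ⊗[k] H :=
  comul - (TensorProduct.mk k H H).flip 1 - TensorProduct.mk k H H 1 +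
    (counit (R := k) (A := H)).smulRight ((1 : H) ⊗ₜ[k] (1 : H))

theorem red_apply (x : H) : red (k := k) x =
    comul (R := k) x - x ⊗ₜ 1 - 1 ⊗ₜ x + counit (R := k) x • ((1 : H) ⊗ₜ[k] (1 : H)) := by
  simp [red]

theorem red_one : red (k := k) (1 : H) = 0 := by
  simp [red_apply, Algebra.TensorProduct.one_def]

/-- `g ⊗ h` as a functional. -/
noncomputable def pair (g h : H →ₗ[k] k) : H ⊗[k] H →ₗ[k] k :=
  LinearMap.mul' k k ∘ₗ TensorProduct.map g h

@[simp] theorem pair_tmul (g h : H →ₗ[k] k) (a b : H) : pair g h (a ⊗ₜ b) = g a * h b := by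
  simp [pair]

theorem pair_red (g h : H →ₗ[k] k) (x : H) : pair g h (red x) =
    (toConv g * toConv h).ofConv x - g x * h 1 - g 1 * h x + counit x * (g 1 * h 1) := by
  simp [red_apply, conv_apply, pair]

theorem mem_primLie {x : H} : x ∈ SGA3y.primLie k H ↔ comul (R := k) x = x ⊗ₜ 1 + 1 ⊗ₜ x := Iff.rfl

theorem counit_prim {x : H} (hx : comul (R := k) x = x ⊗ₜ 1 + 1 ⊗ₜ x) : counit (R := k) x = 0 := by
  have h := congrArg (TensorProduct.lid k H) (Coalgebra.rTensor_counit_comul (R := k) x)
  rw [hx, map_add, LinearMap.rTensor_tmul, LinearMap.rTensor_tmul, map_add, TensorProduct.lid_tmul,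
    TensorProduct.lid_tmul, TensorProduct.lid_tmul, Bialgebra.counit_one, one_smul, add_eq_right] at h
  have h2 := congrArg (counit (R := k)) h
  simpa using h2

variable (k H) in
/-- The canonical map from the enveloping algebra of the primitive elements. -/
noncomputable abbrev phiU : UniversalEnvelopingAlgebra k (SGA3y.primLie k H) →ₐ[k] H :=
  UniversalEnvelopingAlgebra.lift k (SGA3y.primLie k H).incl

section Monomials

variable [CharZero k] {ι : Type u} [LinearOrder ι] (b : Module.Basis ι k (SGA3y.primLie k H))


/-- `∏ mᵢ!`. -/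
def fac (m : ι →₀ ℕ) : k := m.prod fun _ n => (n.factorial : k)

omit [LinearOrder ι] in
theorem fac_ne_zero (m : ι →₀ ℕ) : fac (k := k) m ≠ 0 :=
  Finset.prod_ne_zero_iff.mpr fun i _ => Nat.cast_ne_zero.mpr (Nat.factorial_ne_zero _)

/-- Divided power monomials. -/
noncomputable def f (m : ι →₀ ℕ) : H :=
  (fac (k := k) m)⁻¹ • (phiU k H) (PBWLib.mon b (Finsupp.toMultiset m))

/-- Divided powers of a basis element. -/
noncomputable def dp (a : ι) (n : ℕ) : H := ((n.factorial : k))⁻¹ • ((b a : H)) ^ n

theorem f_zero : f b (0 : ι →₀ ℕ) = 1 := by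
  simp [f, fac, PBWLib.mon]

theorem f_add_single {p : ι →₀ ℕ} {a : ι} (ha : ∀ c ∈ p.support, c < a) (n : ℕ) :
    f b (p + Finsupp.single a n) = f b p * dp b a n := by
  classical
  have hmon : PBWLib.mon b (Finsupp.toMultiset (p + Finsupp.single a n)) =
      PBWLib.mon b (Finsupp.toMultiset p) * UniversalEnvelopingAlgebra.ι k (b a) ^ n := by
    have hsort : (Finsupp.toMultiset (p + Finsupp.single a n)).sort (· ≤ ·) =
        (Finsupp.toMultiset p).sort (· ≤ ·) ++ List.replicate n a := by
      refine List.Perm.eq_of_pairwise' (r := (· ≤ ·)) (Multiset.pairwise_sort _ _)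
        (List.pairwise_append.mpr ⟨Multiset.pairwise_sort _ _, List.pairwise_replicate.mpr (Or.inr le_rfl),
          fun x hx y hy => ?_⟩) ?_
      · rw [Multiset.mem_sort, Finsupp.mem_toMultiset] at hx
        rw [List.eq_of_mem_replicate hy]
        exact (ha x hx).le
      · rw [← Multiset.coe_eq_coe, ← Multiset.coe_add, Multiset.sort_eq, Multiset.sort_eq,
          Multiset.coe_replicate, map_add, Finsupp.toMultiset_single, Multiset.nsmul_singleton]
    rw [PBWLib.mon, hsort, List.map_append, List.prod_append, List.map_replicate, List.prod_replicate]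
    rfl
  have hdisj : Disjoint p.support (Finsupp.single a n).support :=
    Finset.disjoint_left.mpr fun c hc hc' =>
      (ha c hc).ne (Finset.mem_singleton.mp (Finsupp.support_single_subset hc'))
  have hfac : fac (k := k) (p + Finsupp.single a n) = fac (k := k) p * (n.factorial : k) := by
    rw [fac, fac, Finsupp.prod_add_index_of_disjoint hdisj, Finsupp.prod_single_index (by simp)]
  simp only [f, dp, hfac, hmon, map_mul, map_pow, UniversalEnvelopingAlgebra.lift_ι_apply,
    LieSubalgebra.coe_incl, mul_inv, smul_mul_smul_comm]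

theorem comul_dp (a : ι) (n : ℕ) :
    comul (R := k) (dp b a n) = ∑ j ∈ Finset.antidiagonal n, dp b a j.1 ⊗ₜ dp b a j.2 := by
  set x : H := (b a : H)
  have hc : Commute (x ⊗ₜ[k] (1 : H)) ((1 : H) ⊗ₜ[k] x) := by
    simp [Commute, SemiconjBy]
  rw [dp, map_smul, Bialgebra.comul_pow, show comul (R := k) x = x ⊗ₜ 1 + 1 ⊗ₜ x from mem_primLie.mp (b a).2,
    hc.add_pow', Finset.smul_sum]
  refine Finset.sum_congr rfl fun j hj => ?_
  rw [Finset.mem_antidiagonal] at hj
  rw [Algebra.TensorProduct.tmul_pow, Algebra.TensorProduct.tmul_pow, Algebra.TensorProduct.tmul_mul_tmul,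
    one_pow, one_pow, mul_one, one_mul, ← Nat.cast_smul_eq_nsmul k, smul_smul, dp, dp,
    TensorProduct.smul_tmul_smul]
  congr 1
  subst hj
  have h1 : ((j.1 + j.2).factorial : k) ≠ 0 := Nat.cast_ne_zero.mpr (Nat.factorial_ne_zero _)
  rw [← mul_inv, Nat.cast_add_choose]
  field_simp

theorem comul_f (m : ι →₀ ℕ) :
    comul (R := k) (f b m) = ∑ p ∈ Finset.antidiagonal m, f b p.1 ⊗ₜ f b p.2 := by
  classical
  induction m using Finsupp.induction_on_max₂ with
  | zero => simp [f_zero, Algebra.TensorProduct.one_def]
  | add_single a n p ha hn ih =>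
    have hlt : ∀ q : (ι →₀ ℕ) × (ι →₀ ℕ), q ∈ Finset.antidiagonal p →
        (∀ c ∈ q.1.support, c < a) ∧ (∀ c ∈ q.2.support, c < a) := by
      intro q hq
      rw [Finset.mem_antidiagonal] at hq
      constructor <;> intro c hc <;> refine ha c ?_ <;> rw [Finsupp.mem_support_iff] at hc ⊢ <;>
        rw [← hq, Finsupp.add_apply] <;> omega
    rw [f_add_single b ha, Bialgebra.comul_mul, ih, comul_dp, Finset.sum_mul_sum, ← Finset.sum_product']
    have hpa : p a = 0 := Finsupp.notMem_support_iff.mp fun h => (ha a h).false
    refine Finset.sum_bij' (fun z _ => (z.1.1 + Finsupp.single a z.2.1, z.1.2 + Finsupp.single a z.2.2))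
      (fun q _ => ((q.1.erase a, q.2.erase a), (q.1 a, q.2 a))) ?_ ?_ ?_ ?_ ?_
    · intro z hz
      simp only [Finset.mem_product, Finset.mem_antidiagonal] at hz ⊢
      rw [← hz.1, ← hz.2, Finsupp.single_add]
      abel
    · intro q hq
      simp only [Finset.mem_product, Finset.mem_antidiagonal] at hq ⊢
      refine ⟨Finsupp.ext fun c => ?_, ?_⟩
      · have := DFunLike.congr_fun hq c
        rcases eq_or_ne c a with rfl | hc
        · simp [hpa]
        · simpa [hc, Finsupp.erase_ne] using this
      · simpa [hpa] using DFunLike.congr_fun hq a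
    · intro z hz
      simp only [Finset.mem_product] at hz
      obtain ⟨h1, h2⟩ := hlt z.1 hz.1
      have e1 : z.1.1 a = 0 := Finsupp.notMem_support_iff.mp fun h => (h1 a h).false
      have e2 : z.1.2 a = 0 := Finsupp.notMem_support_iff.mp fun h => (h2 a h).false
      simp [Finsupp.erase_add, e1, e2]
    · intro q _
      simp [Finsupp.erase_add_single]
    · intro z hz
      simp only [Finset.mem_product] at hz
      obtain ⟨h1, h2⟩ := hlt z.1 hz.1
      rw [Algebra.TensorProduct.tmul_mul_tmul, f_add_single b h1, f_add_single b h2]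

theorem counit_f (m : ι →₀ ℕ) : counit (R := k) (f b m) = if m = 0 then 1 else 0 := by
  induction m using Finsupp.induction_on_max₂ with
  | zero => simp [f_zero]
  | add_single a n p ha hn ih =>
    have hne : p + Finsupp.single a n ≠ 0 := fun h => hn (by
      have := DFunLike.congr_fun h a
      simp only [Finsupp.add_apply, Finsupp.single_eq_same, Finsupp.coe_zero, Pi.zero_apply] at this
      omega)
    simp [f_add_single b ha, dp, counit_prim (mem_primLie.mp (b a).2), hne, zero_pow hn]

theorem red_f (m : ι →₀ ℕ) (hm : m ≠ 0) :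
    red (k := k) (f b m) =
      ∑ p ∈ (Finset.antidiagonal m).filter (fun p => p.1 ≠ 0 ∧ p.2 ≠ 0), f b p.1 ⊗ₜ f b p.2 := by
  classical
  have h : (Finset.antidiagonal m).filter (fun p => ¬(p.1 ≠ 0 ∧ p.2 ≠ 0)) = {(m, 0), (0, m)} := by
    ext ⟨p, q⟩
    simp only [Finset.mem_filter, Finset.mem_antidiagonal, Finset.mem_insert, Finset.mem_singleton,
      Prod.mk.injEq, ne_eq, not_and_or, not_not]
    constructor
    · rintro ⟨h, rfl | rfl⟩
      · exact Or.inr ⟨rfl, by simpa using h⟩
      · exact Or.inl ⟨by simpa using h, rfl⟩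
    · rintro (⟨rfl, rfl⟩ | ⟨rfl, rfl⟩) <;> simp
  rw [red_apply, comul_f, ← Finset.sum_filter_add_sum_filter_not (Finset.antidiagonal m)
    (fun p => p.1 ≠ 0 ∧ p.2 ≠ 0), h, Finset.sum_pair (by simp [hm]), counit_f, if_neg hm, f_zero]
  simp
  abel

theorem linearIndependent_f : LinearIndependent k (f b) := by
  classical
  suffices key : ∀ (N : ℕ) (s : Finset (ι →₀ ℕ)) (c : (ι →₀ ℕ) → k), (∀ m ∈ s, Finsupp.degree m ≤ N) →
      ∑ m ∈ s, c m • f b m = 0 → ∀ m ∈ s, c m = 0 by
    rw [linearIndependent_iff']
    intro s c hs m hm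
    exact key (s.sup fun m => Finsupp.degree m) s c (fun m hm => Finset.le_sup (f := fun m => Finsupp.degree m) hm)
      hs m hm
  intro N
  induction N using Nat.strong_induction_on with
  | _ N IH =>
    intro s c hdeg hsum
    -- the coefficients in degree `≥ 2`
    have h2 : ∀ m ∈ s, 2 ≤ Finsupp.degree m → c m = 0 := by
      intro m₀ hm₀ hd
      let T := (s.biUnion fun m => (Finset.antidiagonal m).filter fun p => p.1 ≠ 0 ∧ p.2 ≠ 0)
      let U := T.image Prod.fst ∪ T.image Prod.snd
      have hU : ∀ p ∈ U, Finsupp.degree p < N := by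
        intro p hp
        simp only [U, T, Finset.mem_union, Finset.mem_image, Finset.mem_biUnion, Finset.mem_filter,
          Finset.mem_antidiagonal] at hp
        rcases hp with ⟨q, ⟨m, hm, hq, h1, h2⟩, rfl⟩ | ⟨q, ⟨m, hm, hq, h1, h2⟩, rfl⟩ <;>
        · have := hdeg m hm
          rw [← hq, map_add] at this
          have e1 : Finsupp.degree q.1 ≠ 0 := fun h => h1 ((Finsupp.degree_eq_zero_iff _).mp h)
          have e2 : Finsupp.degree q.2 ≠ 0 := fun h => h2 ((Finsupp.degree_eq_zero_iff _).mp h)
          omega
      have hli : LinearIndependent k (fun p : U => f b (p : ι →₀ ℕ)) := by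
        rw [Fintype.linearIndependent_iff]
        intro g hg p
        let g' : (ι →₀ ℕ) → k := fun q => if h : q ∈ U then g ⟨q, h⟩ else 0
        have hN : 0 < N := lt_of_lt_of_le (by omega) (hdeg m₀ hm₀)
        have := IH (N - 1) (by omega) U g' (fun q hq => by have := hU q hq; omega) (by
          rw [← Finset.sum_coe_sort U]
          simpa [g'] using hg) p p.2
        simpa [g'] using this
      have hred := congrArg (red (k := k)) hsum
      rw [map_zero, map_sum] at hred
      have hred' : ∑ q ∈ T, c (q.1 + q.2) • (f b q.1 ⊗ₜ[k] f b q.2) = 0 := by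
        rw [Finset.sum_biUnion ?_, ← hred]
        · refine Finset.sum_congr rfl fun m hm => ?_
          rcases eq_or_ne m 0 with rfl | h0
          · simp [f_zero, red_one, Finset.sum_filter]
          · rw [map_smul, red_f b m h0, Finset.smul_sum]
            exact Finset.sum_congr rfl fun q hq => by
              rw [Finset.mem_antidiagonal.mp (Finset.mem_filter.mp hq).1]
        · intro m _ m' _ hne
          refine Finset.disjoint_left.mpr fun q hq hq' => hne ?_
          rw [← Finset.mem_antidiagonal.mp (Finset.mem_filter.mp hq).1,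
            Finset.mem_antidiagonal.mp (Finset.mem_filter.mp hq').1]
      obtain ⟨i, hi⟩ : m₀.support.Nonempty :=
        Finsupp.support_nonempty_iff.mpr fun h => by simp [h] at hd
      let e := Finsupp.single i 1
      have hle : e ≤ m₀ := Finsupp.single_le_iff.mpr
        (Nat.one_le_iff_ne_zero.mpr (Finsupp.mem_support_iff.mp hi))
      have hsplit : e + (m₀ - e) = m₀ := add_tsub_cancel_of_le hle
      have hmem : (e, m₀ - e) ∈ T := by
        simp only [T, Finset.mem_biUnion, Finset.mem_filter, Finset.mem_antidiagonal]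
        refine ⟨m₀, hm₀, hsplit, by simp [e], fun h => ?_⟩
        rw [h, add_zero] at hsplit
        rw [← hsplit] at hd
        simp [e] at hd
      have hprod := hli.tmul_of_flat_left hli
      rw [linearIndependent_iff'] at hprod
      have hT : ∀ q ∈ T, q.1 ∈ U ∧ q.2 ∈ U := fun q hq =>
        ⟨Finset.mem_union_left _ (Finset.mem_image_of_mem _ hq),
          Finset.mem_union_right _ (Finset.mem_image_of_mem _ hq)⟩
      let emb : T → U × U := fun q => (⟨q.1.1, (hT q q.2).1⟩, ⟨q.1.2, (hT q q.2).2⟩)
      have hinj : Function.Injective emb := fun q q' h => by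
        simp only [emb, Prod.mk.injEq, Subtype.mk.injEq] at h
        exact Subtype.ext (Prod.ext h.1 h.2)
      have := hprod (Finset.univ.image emb) (fun z => c ((z.1 : ι →₀ ℕ) + (z.2 : ι →₀ ℕ))) (by
        rw [Finset.sum_image fun _ _ _ _ h => hinj h]
        rw [← Finset.sum_coe_sort T] at hred'
        exact hred') (emb ⟨_, hmem⟩) (Finset.mem_image_of_mem _ (Finset.mem_univ _))
      simpa [emb, hsplit] using this
    -- degree `≤ 1`
    intro m hm
    by_contra hcm
    have hle1 : ∀ m ∈ s, c m ≠ 0 → m = 0 ∨ ∃ i, m = Finsupp.single i 1 := by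
      intro m hm hc
      rcases Nat.lt_or_ge (Finsupp.degree m) 2 with h | h
      · rcases Nat.le_one_iff_eq_zero_or_eq_one.mp (Nat.lt_succ_iff.mp h) with h' | h'
        · exact Or.inl ((Finsupp.degree_eq_zero_iff m).mp h')
        · obtain ⟨i, hi⟩ : m.support.Nonempty :=
            Finsupp.support_nonempty_iff.mpr fun h0 => by simp [h0] at h'
          obtain ⟨r, hr⟩ := exists_add_of_le (Finsupp.single_le_iff.mpr
            (Nat.one_le_iff_ne_zero.mpr (Finsupp.mem_support_iff.mp hi)) : Finsupp.single i 1 ≤ m)
          have hr0 : r = 0 := (Finsupp.degree_eq_zero_iff r).mp (by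
            rw [hr, map_add] at h'; simp at h'; simp [h'])
          exact Or.inr ⟨i, by rw [hr, hr0, add_zero]⟩
      · exact (hc (h2 m hm h)).elim
    have hc0 : ∀ m ∈ s, m = 0 → c m = 0 := by
      rintro m hm rfl
      have := congrArg (counit (R := k)) hsum
      simpa [counit_f, hm] using this
    obtain ⟨i, rfl⟩ : ∃ i, m = Finsupp.single i 1 :=
      (hle1 m hm hcm).resolve_left fun h => hcm (hc0 m hm h)
    have hb : LinearIndependent k fun i => (b i : H) :=
      b.linearIndependent.map' (SGA3y.primLie k H).toSubmodule.subtype (Submodule.ker_subtype _)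
    have hf1 : ∀ i, f b (Finsupp.single i 1) = (b i : H) := fun i => by
      have := f_add_single b (p := 0) (a := i) (by simp) 1
      rwa [zero_add, f_zero, one_mul, dp, Nat.factorial_one, Nat.cast_one, inv_one, one_smul, pow_one] at this
    let S := s.preimage (fun i => Finsupp.single i 1) (fun _ _ _ _ h => (Finsupp.single_left_injective one_ne_zero) h)
    refine hcm (linearIndependent_iff'.mp hb S (fun i => c (Finsupp.single i 1)) ?_ i (Finset.mem_preimage.mpr hm))
    simp only [S, ← hf1]
    refine (Finset.sum_preimage (fun i => Finsupp.single i 1) s _ (fun m => c m • f b m) fun m hm hm' => ?_).trans hsum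
    by_cases hc : c m = 0
    · rw [hc, zero_smul]
    · rcases hle1 m hm hc with h | ⟨j, rfl⟩
      · exact (hc (hc0 m hm h)).elim
      · exact (hm' ⟨j, rfl⟩).elim

theorem lift_monEquiv : (((phiU k H)).toLinearMap ∘ₗ (PBWLib.monEquiv b).toLinearMap) =
    Finsupp.linearCombination k (fun M : Multiset ι => fac (k := k) (Multiset.toFinsupp M) • f b (Multiset.toFinsupp M)) := by
  refine Finsupp.lhom_ext fun M r => ?_
  rw [Finsupp.linearCombination_single, f, smul_smul (fac (k := k) (Multiset.toFinsupp M)),
    mul_inv_cancel₀ (fac_ne_zero _), one_smul, Multiset.toFinsupp_toMultiset]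
  change (phiU k H) (PBWLib.Φ b (Finsupp.single M r)) = _
  rw [PBWLib.Φ, Finsupp.linearCombination_single, map_smul]

include b in
theorem lift_injective : Function.Injective (phiU k H) := by
  have h : LinearIndependent k
      (fun M : Multiset ι => fac (k := k) (Multiset.toFinsupp M) • f b (Multiset.toFinsupp M)) :=
    ((linearIndependent_f b).comp _ Multiset.toFinsupp.injective).units_smul
      (fun M => Units.mk0 _ (fac_ne_zero (k := k) (Multiset.toFinsupp M)))
  intro u v huv
  obtain ⟨u, rfl⟩ := (PBWLib.monEquiv b).surjective u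
  obtain ⟨v, rfl⟩ := (PBWLib.monEquiv b).surjective v
  rw [linearIndependent_iff_injective_finsuppLinearCombination, ← lift_monEquiv] at h
  exact congrArg _ (h huv)

theorem f_mem (m : ι →₀ ℕ) : f b m ∈ ((phiU k H)).range :=
  Subalgebra.smul_mem _ ((AlgHom.mem_range _).mpr ⟨_, rfl⟩) _

theorem span_f : Submodule.span k (Set.range (f b)) = Subalgebra.toSubmodule ((phiU k H)).range := by
  refine le_antisymm (Submodule.span_le.mpr (Set.range_subset_iff.mpr (f_mem b))) ?_
  rintro _ ⟨u, rfl⟩
  obtain ⟨u, rfl⟩ := (PBWLib.monEquiv b).surjective u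
  have := LinearMap.congr_fun (lift_monEquiv b) u
  simp only [LinearMap.comp_apply, LinearEquiv.coe_coe, AlgHom.toLinearMap_apply] at this
  rw [show ((phiU k H)).toRingHom (PBWLib.monEquiv b u) = _ from this]
  exact Submodule.sum_mem _ fun M _ => Submodule.smul_mem _ _
    (Submodule.smul_mem _ _ (Submodule.subset_span ⟨_, rfl⟩))

end Monomials

section Surjective

variable [CharZero k] [Coalgebra.IsCocomm k H]

theorem mem_range_map_of_both (I : Submodule k H) {t : H ⊗[k] H}
    (h1 : t ∈ LinearMap.range (I.subtype.rTensor H)) (h2 : t ∈ LinearMap.range (I.subtype.lTensor H)) :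
    t ∈ LinearMap.range (TensorProduct.map I.subtype I.subtype) := by
  obtain ⟨p, hp⟩ := I.subtype.exists_leftInverse_of_injective I.ker_subtype
  obtain ⟨a, rfl⟩ := h1
  obtain ⟨c, hc⟩ := h2
  refine ⟨p.lTensor I a, ?_⟩
  have e : ∀ a : I ⊗[k] H, TensorProduct.map I.subtype I.subtype (p.lTensor I a) =
      (I.subtype ∘ₗ p).lTensor H (I.subtype.rTensor H a) := by
    intro a
    induction a using TensorProduct.induction_on with
    | zero => simp
    | tmul x y => simp
    | add x y hx hy => simp [hx, hy]
  rw [e, ← hc, ← LinearMap.lTensor_comp_apply, LinearMap.comp_assoc, hp, LinearMap.comp_id]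

theorem comm_red (x : H) : TensorProduct.comm k H H (red x) = red (k := k) x := by
  simp only [red_apply, map_sub, map_add, map_smul, TensorProduct.comm_tmul, Coalgebra.comm_comul]
  abel

theorem red_mem (I : Submodule k H) (h1 : (1 : H) ∈ I) (v : H)
    (hv : ∀ g : H →ₗ[k] k, g 1 = 0 → HopfLib.hit (V := H) g v ∈ I) :
    red v ∈ LinearMap.range (TensorProduct.map I.subtype I.subtype) := by
  have hr : red v ∈ LinearMap.range (I.subtype.rTensor H) := by
    refine HopfLib.mem_range_rTensor_subtype_iff.mpr fun g => ?_
    have hg : HopfLib.sliceR g (red v) =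
        HopfLib.hit (V := H) (g + (-(g 1)) • counit) v - g v • (1 : H) + (counit (R := k) v * g 1) • (1 : H) := by
      rw [HopfLib.hit_add, HopfLib.hit_smul, HopfLib.hit_counit]
      simp [red_apply, HopfLib.hit_apply, HopfRep.Comod.coact, smul_smul, sub_eq_add_neg]
    rw [hg]
    exact I.add_mem (I.sub_mem (hv _ (by simp)) (I.smul_mem _ h1)) (I.smul_mem _ h1)
  refine mem_range_map_of_both I hr ?_
  obtain ⟨a, ha⟩ := hr
  refine ⟨TensorProduct.comm k I H a, ?_⟩
  rw [← comm_red, ← ha]
  clear ha
  induction a using TensorProduct.induction_on with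
  | zero => simp
  | tmul x y => simp
  | add x y hx hy => simp [hx, hy]

/-- The primitive step: elements with reduced comultiplication in the image lie in the image. -/
theorem mem_range_of_red {ι : Type u} [LinearOrder ι] (b : Module.Basis ι k (SGA3y.primLie k H)) (x : H)
    (hx : red x ∈ LinearMap.range (TensorProduct.map (Submodule.span k (Set.range (f b))).subtype
      (Submodule.span k (Set.range (f b))).subtype)) :
    x ∈ Submodule.span k (Set.range (f b)) := by
  classical
  set I := Submodule.span k (Set.range (f b)) with hI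
  let bI : Module.Basis (ι →₀ ℕ) k I := Module.Basis.span (linearIndependent_f b)
  have hbI : ∀ m, (bI m : H) = f b m := fun m => Module.Basis.coe_span_apply _ m
  choose phi hphi using fun m => LinearMap.exists_extend (bI.coord m)
  have hφI : ∀ m (z : I), phi m (z : H) = bI.repr z m := fun m z => LinearMap.congr_fun (hphi m) z
  have hφf : ∀ m n, phi m (f b n) = if n = m then 1 else 0 := fun m n => by
    rw [← hbI, hφI, Module.Basis.repr_self, Finsupp.single_apply]
  have hφ1 : ∀ m, m ≠ 0 → phi m 1 = 0 := fun m hm => by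
    rw [← f_zero b, hφf, if_neg fun h => hm h.symm]
  have hpairI : ∀ g g' h h' : H →ₗ[k] k, (∀ z : I, g z = g' z) → (∀ z : I, h z = h' z) →
      ∀ u : I ⊗[k] I, pair g h (TensorProduct.map I.subtype I.subtype u) =
        pair g' h' (TensorProduct.map I.subtype I.subtype u) := by
    intro g g' h h' hg hh u
    induction u using TensorProduct.induction_on with
    | zero => simp
    | tmul y z => simp [hg y, hh z]
    | add y z hy hz => simp [hy, hz]
  have hcoord : ∀ (u : I ⊗[k] I) (p q : ι →₀ ℕ),
      (bI.tensorProduct bI).repr u (p, q) = pair (phi p) (phi q) (TensorProduct.map I.subtype I.subtype u) := by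
    intro u p q
    induction u using TensorProduct.induction_on with
    | zero => simp
    | tmul y z => simp [hφI, mul_comm]
    | add y z hy hz => simp [hy, hz]
  have hε : ∀ z : I, counit (R := k) (z : H) = phi 0 z := by
    intro z
    have : (counit (R := k) (A := H)) ∘ₗ I.subtype = phi 0 ∘ₗ I.subtype :=
      bI.ext fun m => by simp [hbI, counit_f, hφf]
    exact LinearMap.congr_fun this z
  obtain ⟨u, hu⟩ := hx
  let c : (ι →₀ ℕ) → (ι →₀ ℕ) → k := fun p q => (toConv (phi p) * toConv (phi q)).ofConv x
  have hc : ∀ p q, p ≠ 0 → q ≠ 0 → pair (phi p) (phi q) (red x) = c p q := fun p q hp hq => by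
    simp [pair_red, c, hφ1 p hp, hφ1 q hq]
  have hsymm : ∀ p q, c p q = c q p := fun p q => by simp only [c, mul_comm]
  have hassoc : ∀ p q r, p ≠ 0 → q ≠ 0 → r ≠ 0 → c (p + q) r =
      ((toConv (phi p) * toConv (phi q)) * toConv (phi r)).ofConv x := by
    intro p q r hp hq hr
    let ψ := (toConv (phi p) * toConv (phi q)).ofConv
    have hag : ∀ z : I, ψ z = phi (p + q) z := by
      intro z
      have : ψ ∘ₗ I.subtype = phi (p + q) ∘ₗ I.subtype := bI.ext fun m => by
        simp only [LinearMap.comp_apply, Submodule.coe_subtype, hbI, ψ, conv_apply, comul_f, map_sum,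
          TensorProduct.map_tmul, LinearMap.mul'_apply, hφf]
        simp only [ite_mul, one_mul, zero_mul, ← ite_and]
        rw [Finset.sum_congr rfl fun (y : (ι →₀ ℕ) × (ι →₀ ℕ)) _ => show _ = (if y = (p, q) then (1 : k) else 0) by
          by_cases h : y = (p, q)
          · simp [h]
          · rw [if_neg h, if_neg fun h' => h (Prod.ext h'.1 h'.2)],
          Finset.sum_ite_eq']
        simp [eq_comm]
      exact LinearMap.congr_fun this z
    have hψ1 : ψ 1 = phi (p + q) 1 := by
      have := hag ⟨1, Submodule.subset_span ⟨0, f_zero b⟩⟩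
      exact this
    have e1 := pair_red ψ (phi r) x
    have e2 := pair_red (phi (p + q)) (phi r) x
    have hp' := hpairI ψ (phi (p + q)) (phi r) (phi r) hag (fun _ => rfl) u
    rw [hu] at hp'
    rw [hp', e2, hψ1, hφ1 r hr] at e1
    simp only [mul_zero, sub_zero, add_zero] at e1
    have hpq : p + q ≠ 0 := fun h => hp (add_eq_zero.mp h).1
    simp only [hφ1 _ hpq, zero_mul, sub_zero] at e1
    exact e1
  have hcocyc : ∀ p q r, p ≠ 0 → q ≠ 0 → r ≠ 0 → c (p + q) r = c p (q + r) := by
    intro p q r hp hq hr
    rw [hassoc p q r hp hq hr, hsymm p, hassoc q r p hq hr hp, mul_assoc, mul_comm (toConv (phi p))]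
  have hne : ∀ i : ι, Finsupp.single i (1 : ℕ) ≠ 0 := fun i => by simp
  have hmove : ∀ p q i, q ≠ 0 → i ∈ p.support →
      c p q = c (Finsupp.single i 1) (p + q - Finsupp.single i 1) := by
    intro p q i hq hi
    obtain ⟨p', rfl⟩ : ∃ p', p = Finsupp.single i 1 + p' :=
      ⟨p - Finsupp.single i 1, (add_tsub_cancel_of_le (Finsupp.single_le_iff.mpr
        (Nat.one_le_iff_ne_zero.mpr (Finsupp.mem_support_iff.mp hi)))).symm⟩
    rw [add_assoc, add_tsub_cancel_left]
    rcases eq_or_ne p' 0 with rfl | hp'
    · simp
    · rw [hcocyc _ _ _ (hne i) hp' hq]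
  have hindep : ∀ (m : ι →₀ ℕ) i j, i ∈ m.support → j ∈ m.support →
      c (Finsupp.single i 1) (m - Finsupp.single i 1) = c (Finsupp.single j 1) (m - Finsupp.single j 1) := by
    intro m i j hi hj
    rcases eq_or_ne i j with rfl | hij
    · rfl
    · have hle : Finsupp.single i 1 + Finsupp.single j 1 ≤ m := by
        intro l
        rw [Finsupp.mem_support_iff] at hi hj
        rcases eq_or_ne l i with rfl | hli
        · simp [hij, Nat.one_le_iff_ne_zero, hi]
        · rcases eq_or_ne l j with rfl | hlj
          · simp [hli, Nat.one_le_iff_ne_zero, hj]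
          · simp [hli, hlj]
      obtain ⟨r, rfl⟩ := exists_add_of_le hle
      rw [show Finsupp.single i 1 + Finsupp.single j 1 + r - Finsupp.single i 1 = Finsupp.single j 1 + r by
          rw [add_assoc, add_tsub_cancel_left],
        show Finsupp.single i 1 + Finsupp.single j 1 + r - Finsupp.single j 1 = Finsupp.single i 1 + r by
          rw [add_comm (Finsupp.single i 1), add_assoc, add_tsub_cancel_left]]
      rcases eq_or_ne r 0 with rfl | hr
      · simpa using hsymm _ _
      · rw [← hcocyc _ _ _ (hne i) (hne j) hr, ← hcocyc _ _ _ (hne j) (hne i) hr, add_comm]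
  let g : (ι →₀ ℕ) → k := fun m => if h : m.support.Nonempty then
    c (Finsupp.single h.choose 1) (m - Finsupp.single h.choose 1) else 0
  have hg : ∀ p q, p ≠ 0 → q ≠ 0 → c p q = g (p + q) := by
    intro p q hp hq
    obtain ⟨i, hi⟩ := Finsupp.support_nonempty_iff.mpr hp
    have hpq : i ∈ (p + q).support := by
      rw [Finsupp.mem_support_iff] at hi ⊢
      rw [Finsupp.add_apply]; omega
    have hgpq : g (p + q) = c (Finsupp.single (⟨i, hpq⟩ : (p + q).support.Nonempty).choose 1)
        (p + q - Finsupp.single (⟨i, hpq⟩ : (p + q).support.Nonempty).choose 1) := dif_pos ⟨i, hpq⟩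
    rw [hgpq]
    rw [hmove p q i hq hi]
    exact hindep _ _ _ hpq (Exists.choose_spec (p := fun l => l ∈ (p + q).support) ⟨i, hpq⟩)
  let T := ((bI.tensorProduct bI).repr u).support
  let M := (T.filter fun z => z.1 ≠ 0 ∧ z.2 ≠ 0).image fun z => z.1 + z.2
  let y : H := ∑ m ∈ M, g m • f b m
  have hyI : y ∈ I := Submodule.sum_mem _ fun m _ => Submodule.smul_mem _ _ (Submodule.subset_span ⟨m, rfl⟩)
  have hry : red y ∈ LinearMap.range (TensorProduct.map I.subtype I.subtype) := by
    simp only [y, map_sum, map_smul]
    refine Submodule.sum_mem _ fun m hm => Submodule.smul_mem _ _ ?_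
    rcases eq_or_ne m 0 with rfl | h0
    · simp [f_zero, red_one]
    · rw [red_f b m h0]
      exact Submodule.sum_mem _ fun p _ => ⟨bI p.1 ⊗ₜ bI p.2, by simp [hbI]⟩
  obtain ⟨w, hw⟩ := hry
  have huw : u = w := by
    refine (bI.tensorProduct bI).ext_elem fun z => ?_
    obtain ⟨p, q⟩ := z
    rw [hcoord, hcoord]
    rcases eq_or_ne p 0 with rfl | hp
    · rw [← hpairI counit _ _ _ hε (fun _ => rfl) u, ← hpairI counit _ _ _ hε (fun _ => rfl) w, hu, hw]
      have key : ∀ (h : H →ₗ[k] k) (z : H), pair counit h (red z) = 0 := by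
        intro h z
        have e : (toConv (counit (R := k) (A := H)) * toConv h).ofConv z = h z := by
          rw [show toConv (counit (R := k) (A := H)) = (1 : F) from by ext a; simp [LinearMap.convOne_def],
            one_mul]
        rw [pair_red, e, Bialgebra.counit_one]
        ring
      rw [key, key]
    rcases eq_or_ne q 0 with rfl | hq
    · rw [← hpairI _ _ counit _ (fun _ => rfl) hε u, ← hpairI _ _ counit _ (fun _ => rfl) hε w, hu, hw]
      have key : ∀ (h : H →ₗ[k] k) (z : H), pair h counit (red z) = 0 := by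
        intro h z
        have e : (toConv h * toConv (counit (R := k) (A := H))).ofConv z = h z := by
          rw [show toConv (counit (R := k) (A := H)) = (1 : F) from by ext a; simp [LinearMap.convOne_def],
            mul_one]
        rw [pair_red, e, Bialgebra.counit_one]
        ring
      rw [key, key]
    rw [hu, hw, hc p q hp hq]
    have e : pair (phi p) (phi q) (red y) = if p + q ∈ M then g (p + q) else 0 := by
      simp only [y, map_sum, map_smul, smul_eq_mul]
      rw [Finset.sum_congr rfl fun m _ => show g m * pair (phi p) (phi q) (red (f b m)) =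
          if p + q = m then g m else 0 from ?_, Finset.sum_ite_eq]
      rcases eq_or_ne m 0 with rfl | h0
      · rw [f_zero, red_one, map_zero, mul_zero, if_neg fun h => hp (add_eq_zero.mp h).1]
      · rw [red_f b m h0, map_sum]
        simp only [pair_tmul, hφf]
        by_cases h : p + q = m
        · rw [if_pos h, Finset.sum_eq_single (p, q)]
          · simp
          · intro z _ hz
            by_cases h1 : z.1 = p
            · rw [if_neg (fun h2 => hz (Prod.ext h1 h2)), mul_zero]
            · rw [if_neg h1, zero_mul]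
          · intro h'
            exact (h' (by simp [h, hp, hq])).elim
        · rw [if_neg h, Finset.sum_eq_zero, mul_zero]
          intro z hz
          by_cases h1 : z.1 = p
          · by_cases h2 : z.2 = q
            · subst h1 h2
              exact (h (Finset.mem_antidiagonal.mp (Finset.mem_filter.mp hz).1)).elim
            · rw [if_neg h2, mul_zero]
          · rw [if_neg h1, zero_mul]
    rw [e]
    split_ifs with hM
    · exact hg p q hp hq
    · have : ((bI.tensorProduct bI).repr u) (p, q) = 0 := by
        by_contra h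
        exact hM (Finset.mem_image.mpr ⟨(p, q), Finset.mem_filter.mpr ⟨Finsupp.mem_support_iff.mpr h, hp, hq⟩, rfl⟩)
      rw [hcoord, hu, hc p q hp hq] at this
      exact this
  have hd : red (k := k) (x - y) = 0 := by rw [map_sub, ← hu, ← hw, huw, sub_self]
  let z : H := x - y - counit (R := k) (x - y) • 1
  have hz : z ∈ SGA3y.primLie k H := by
    have hrz : red (k := k) z = 0 := by simp [z, map_sub, map_smul, red_one, hd]
    have hεz : counit (R := k) z = 0 := by simp [z]
    rw [red_apply, hεz, zero_smul, add_zero, sub_sub, sub_eq_zero] at hrz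
    exact mem_primLie.mpr hrz
  have hzI : z ∈ I := by
    rw [hI, span_f b]
    exact ⟨UniversalEnvelopingAlgebra.ι k ⟨z, hz⟩, UniversalEnvelopingAlgebra.lift_ι_apply k _ _⟩
  have : x = z + y + counit (R := k) (x - y) • 1 := by simp [z]; abel
  rw [this]
  exact I.add_mem (I.add_mem hzI hyI) (I.smul_mem _ (f_zero b ▸ Submodule.subset_span ⟨0, rfl⟩))

/-- Connectedness makes every element reachable by the primitive step. -/
theorem mem_of_step (hconn : SGA3y.IsConnectedCoalg k H) (I : Submodule k H) (h1 : (1 : H) ∈ I)
    (hstep : ∀ v, red v ∈ LinearMap.range (TensorProduct.map I.subtype I.subtype) → v ∈ I) (x : H) :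
    x ∈ I := by
  classical
  let m : Ideal F :=
    { carrier := {g | g.ofConv (1 : H) = 0}
      add_mem' := fun {g h} hg hh => by
        simp only [Set.mem_setOf_eq] at hg hh ⊢
        simp [hg, hh]
      zero_mem' := by simp
      smul_mem' := fun a g hg => by
        simp only [Set.mem_setOf_eq] at hg ⊢
        rw [smul_eq_mul, conv_apply, Bialgebra.comul_one, Algebra.TensorProduct.one_def,
          TensorProduct.map_tmul, LinearMap.mul'_apply, hg, mul_zero] }
  let D : Submodule F H := Submodule.span F {x}
  have hfin : Module.Finite k (D.restrictScalars k) := by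
    have := HopfLib.finite_orbit (k := k) (A := H) x
    refine Module.Finite.of_injective (Submodule.inclusion (p := D.restrictScalars k)
      (p' := HopfLib.orbit k H x) ?_) (Submodule.inclusion_injective _)
    intro z hz
    obtain ⟨a, rfl⟩ := Submodule.mem_span_singleton.mp hz
    exact ⟨a.ofConv, rfl⟩
  let S : ℕ → Submodule F H := fun n => Nat.rec (motive := fun _ => Submodule F H) D (fun _ X => m • X) n
  have hanti : ∀ n, S (n + 1) ≤ S n := fun n => Submodule.smul_le_right
  have hSD : ∀ n, S n ≤ D := fun n => by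
    induction n with
    | zero => exact le_rfl
    | succ n ih => exact (hanti n).trans ih
  have hfinS : ∀ n, Module.Finite k ((S n).restrictScalars k) := fun n =>
    Module.Finite.of_injective (Submodule.inclusion (p := (S n).restrictScalars k) (p' := D.restrictScalars k)
      (hSD n)) (Submodule.inclusion_injective _)
  obtain ⟨n, hn⟩ : ∃ n, S (n + 1) = S n := by
    let d : ℕ → ℕ := fun n => Module.finrank k ((S n).restrictScalars k)
    obtain ⟨n, hn⟩ : ∃ n, d n ≤ d (n + 1) := by
      by_contra! h
      have : ∀ j, d j + j ≤ d 0 := by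
        intro j
        induction j with
        | zero => simp
        | succ j ih => have := h j; omega
      have := this (d 0 + 1)
      omega
    refine ⟨n, ?_⟩
    have := hfinS n
    exact Submodule.restrictScalars_injective k F H (Submodule.eq_of_le_of_finrank_le (hanti n) hn)
  have hbot : S n = ⊥ := by
    by_contra hne
    have hsub : HopfRep.IsSubcomod (k := k) (A := H) ((S n).restrictScalars k) :=
      HopfLib.isSubcomod_iff_hit.mpr fun g v hv => (S n).smul_mem (toConv g) hv
    have hcoal : ∀ d ∈ (S n).restrictScalars k, comul (R := k) d ∈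
        LinearMap.range (TensorProduct.map ((S n).restrictScalars k).subtype ((S n).restrictScalars k).subtype) := by
      intro d hd
      obtain ⟨a, ha⟩ := hsub d hd
      refine mem_range_map_of_both _ ⟨a, ha⟩ ⟨TensorProduct.comm k _ H a, ?_⟩
      rw [← Coalgebra.comm_comul k d]
      change _ = TensorProduct.comm k H H (HopfRep.Comod.coact (k := k) (A := H) d)
      rw [← ha]
      clear ha
      induction a using TensorProduct.induction_on with
      | zero => simp
      | tmul y z => simp
      | add y z hy hz => simp [hy, hz]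
    have hone : (1 : H) ∈ S n := hconn _ hcoal (fun h => hne ((Submodule.restrictScalars_eq_bot_iff k F H).mp h))
    have hfg : (S n).FG := Submodule.FG.of_restrictScalars k (Module.Finite.iff_fg.mp (hfinS n))
    have hle : S n ≤ m • S n := hn.ge
    obtain ⟨r, hr, hr'⟩ := Submodule.exists_mem_and_smul_eq_self_of_fg_of_le_smul m (S n) hfg hle
    have h := hr' 1 hone
    rw [HopfLib.formAlg_smul_def, HopfLib.hit_apply] at h
    change HopfLib.sliceR r.ofConv (comul (R := k) (1 : H)) = 1 at h
    rw [Bialgebra.comul_one, Algebra.TensorProduct.one_def, HopfLib.sliceR_tmul, show r.ofConv (1 : H) = 0 from hr,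
      zero_smul] at h
    have := congrArg (counit (R := k)) h
    simp at this
  have key : ∀ j ≤ n, ∀ v ∈ S (n - j), v ∈ I := by
    intro j
    induction j with
    | zero => intro _ v hv; rw [Nat.sub_zero, hbot, Submodule.mem_bot] at hv; exact hv ▸ I.zero_mem
    | succ j ih =>
      intro hj v hv
      refine hstep v (red_mem I h1 v fun g hg => ih (by omega) _ ?_)
      have : n - j = (n - (j + 1)) + 1 := by omega
      rw [this]
      exact Submodule.smul_mem_smul (r := toConv g) (n := v) hg hv
  refine key n le_rfl x ?_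
  rw [Nat.sub_self]
  exact Submodule.subset_span rfl

theorem lift_bijective (hconn : SGA3y.IsConnectedCoalg k H) :
    Function.Bijective (UniversalEnvelopingAlgebra.lift k (SGA3y.primLie k H).incl) := by
  let bs := Module.Basis.ofVectorSpace k (SGA3y.primLie k H)
  letI : LinearOrder (Module.Basis.ofVectorSpaceIndex k (SGA3y.primLie k H)) :=
    @linearOrderOfSTO _ WellOrderingRel _ (Classical.decRel _)
  refine ⟨lift_injective bs, fun x => ?_⟩
  have : x ∈ Submodule.span k (Set.range (f bs)) :=
    mem_of_step hconn _ (f_zero bs ▸ Submodule.subset_span ⟨0, rfl⟩) (mem_range_of_red bs) x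
  rw [span_f bs] at this
  exact this

end Surjective

end Groth.Agent.SGA3Union.CMM
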