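import Mathlib.RingTheory.Coalgebra.Basic
import Mathlib.RingTheory.HopfAlgebra.Basic
import Mathlib.RingTheory.Flat.Basic
import Mathlib.RingTheory.Finiteness.Basic
import Mathlib.Algebra.Module.FinitePresentation
import Mathlib.LinearAlgebra.Matrix.NonsingularInverse
import Groth.Agent.CAlgH3.ProjDim
import Mathlib.RingTheory.LocalProperties.ProjectiveDimension
import Mathlib.RingTheory.Ideal.Height
import Mathlib.RingTheory.RegularLocalRing.Defs

/-! Finite subcomodules of flat coalgebras, duals of finite modules over regular rings of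
dimension `≤ 2`, and matrix corepresentations. -/

universe u

open TensorProduct Coalgebra

namespace Groth.Agent.SGA3Union

variable {R : Type u} [CommRing R]

section Eval

variable {V : Type u} [AddCommGroup V] [Module R V] {P Q : Type u} [AddCommGroup P] [Module R P]
  [AddCommGroup Q] [Module R Q]

variable (V P) in
/-- `V ⊗ Hom(P, R) → Hom(P, V)`. -/
noncomputable def ev : V ⊗[R] (P →ₗ[R] R) →ₗ[R] (P →ₗ[R] V) :=
  TensorProduct.lift ((LinearMap.smulRightₗ (R := R) (M₂ := P) (M := V)).flip)

@[simp] theorem ev_tmul (v : V) (l : P →ₗ[R] R) (p : P) : ev V P (v ⊗ₜ l) p = l p • v := rfl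

theorem ev_natural (f : Q →ₗ[R] P) (t : V ⊗[R] (P →ₗ[R] R)) :
    ev V Q (LinearMap.lTensor V (LinearMap.lcomp R R f) t) = (ev V P t).comp f := by
  induction t using TensorProduct.induction_on with
  | zero => simp
  | tmul v l => ext; simp
  | add x y hx hy => simp [hx, hy, LinearMap.add_comp]

theorem ev_pi_bijective (n : ℕ) : Function.Bijective (ev (R := R) V (Fin n → R)) := by
  classical
  have key : ∀ t : V ⊗[R] ((Fin n → R) →ₗ[R] R),
      t = ∑ i, ev V (Fin n → R) t (Pi.single i 1) ⊗ₜ LinearMap.proj i := by
    intro t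
    induction t using TensorProduct.induction_on with
    | zero => simp
    | tmul v l =>
      simp only [ev_tmul, TensorProduct.smul_tmul, ← TensorProduct.tmul_sum]
      congr 1
      refine LinearMap.ext fun x => ?_
      simp only [LinearMap.sum_apply, LinearMap.smul_apply, LinearMap.proj_apply, smul_eq_mul]
      conv_lhs => rw [pi_eq_sum_univ' x, map_sum]
      simp [mul_comm]
    | add x y hx hy =>
      conv_lhs => rw [hx, hy]
      simp [TensorProduct.add_tmul, Finset.sum_add_distrib]
  constructor
  · intro s t h
    rw [key s, key t, h]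
  · intro g
    refine ⟨∑ i, g (Pi.single i 1) ⊗ₜ LinearMap.proj i, ?_⟩
    refine LinearMap.ext fun x => ?_
    simp only [map_sum, LinearMap.sum_apply, ev_tmul, LinearMap.proj_apply]
    conv_rhs => rw [pi_eq_sum_univ' x, map_sum]
    simp

theorem ev_bijective [Module.Flat R V] [Module.FinitePresentation R P] :
    Function.Bijective (ev (R := R) V P) := by
  obtain ⟨n, K, e, hK⟩ := Module.FinitePresentation.exists_fin R P
  let π : (Fin n → R) →ₗ[R] P := e.symm.toLinearMap ∘ₗ K.mkQ
  have hπ : Function.Surjective π := e.symm.surjective.comp K.mkQ_surjective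
  have : Module.Finite R K := Module.Finite.iff_fg.mpr hK
  obtain ⟨m, σ, hσ⟩ := Module.Finite.exists_fin' R K
  let τ : (Fin m → R) →ₗ[R] (Fin n → R) := K.subtype ∘ₗ σ
  have hex : Function.Exact τ π := by
    intro x
    simp [π, τ, Set.range_comp, hσ.range_eq]
  have hinj : Function.Injective (LinearMap.lcomp R R π) := fun a b h =>
    LinearMap.ext fun p => by obtain ⟨x, rfl⟩ := hπ p; exact LinearMap.congr_fun h x
  have hex' : Function.Exact (LinearMap.lcomp R R π) (LinearMap.lcomp R R τ) :=
    LinearMap.exact_lcomp_of_exact_of_surjective R hex hπ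
  constructor
  · rw [← LinearMap.ker_eq_bot, LinearMap.ker_eq_bot']
    intro t ht
    apply Module.Flat.lTensor_preserves_injective_linearMap (M := V) _ hinj
    apply (ev_pi_bijective n).1
    rw [ev_natural, ht]
    simp
  · intro g
    obtain ⟨w, hw⟩ := (ev_pi_bijective (V := V) n).2 (g.comp π)
    have h0 : LinearMap.lTensor V (LinearMap.lcomp R R τ) w = 0 := by
      apply (ev_pi_bijective m).1
      rw [ev_natural, hw, map_zero, LinearMap.comp_assoc, hex.linearMap_comp_eq_zero,
        LinearMap.comp_zero]
    obtain ⟨t, ht⟩ := (Module.Flat.lTensor_exact V hex' _).mp h0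
    refine ⟨t, LinearMap.ext fun p => ?_⟩
    obtain ⟨x, rfl⟩ := hπ p
    have := LinearMap.congr_fun (ev_natural (V := V) π t) x
    rw [ht, hw] at this
    exact this.symm

end Eval

section Dual

open CategoryTheory in
theorem pd_three [IsRegularRing R] (hdim : ringKrullDim R ≤ 2) (M : Type u) [AddCommGroup M]
    [Module R M] [Module.Finite R M] : Groth.Agent.CAlgH3.PD R 3 M := by
  refine ((ModuleCat.of R M).hasProjectiveDimensionLE_iff_forall_maximalSpectrum 2).mpr fun m => ?_
  have hd : (IsLocalRing.maximalIdeal (Localization.AtPrime m.asIdeal)).spanFinrank ≤ 2 := by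
    have h1 : ringKrullDim (Localization.AtPrime m.asIdeal) ≤ 2 := by
      rw [IsLocalization.AtPrime.ringKrullDim_eq_height m.asIdeal]
      exact (Ideal.height_le_ringKrullDim_of_ne_top (Ideal.IsMaximal.ne_top m.isMaximal)).trans hdim
    rw [← IsRegularLocalRing.spanFinrank_maximalIdeal] at h1
    exact_mod_cast h1
  exact Groth.Agent.CAlgH3.pd_mono (Nat.succ_le_succ hd)
    (Groth.Agent.CAlgH3.pd_all (R := Localization.AtPrime m.asIdeal) _)

open Groth.Agent.CAlgH3 in
theorem projective_dual [IsRegularRing R] (hdim : ringKrullDim R ≤ 2) (M : Type u) [AddCommGroup M]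
    [Module R M] [Module.Finite R M] : Module.Projective R (M →ₗ[R] R) := by
  have := Module.finitePresentation_of_finite R M
  obtain ⟨n, K, e, hK⟩ := Module.FinitePresentation.exists_fin R M
  let π : (Fin n → R) →ₗ[R] M := e.symm.toLinearMap ∘ₗ K.mkQ
  have hπ : Function.Surjective π := e.symm.surjective.comp K.mkQ_surjective
  have : Module.Finite R K := Module.Finite.iff_fg.mpr hK
  obtain ⟨m, σ, hσ⟩ := Module.Finite.exists_fin' R K
  let τ : (Fin m → R) →ₗ[R] (Fin n → R) := K.subtype ∘ₗ σ
  have hex : Function.Exact τ π := by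
    intro x
    simp [π, τ, Set.range_comp, hσ.range_eq]
  have hinj : Function.Injective (LinearMap.lcomp R R π) := fun a b h =>
    LinearMap.ext fun p => by obtain ⟨x, rfl⟩ := hπ p; exact LinearMap.congr_fun h x
  let T := LinearMap.lcomp R R τ
  have hex' : LinearMap.ker T = LinearMap.range (LinearMap.lcomp R R π) :=
    LinearMap.exact_iff.mp (LinearMap.exact_lcomp_of_exact_of_surjective R hex hπ)
  have h3 := pd_three hdim (((Fin m → R) →ₗ[R] R) ⧸ LinearMap.range T)
  have h2 : PD R 2 (LinearMap.range T) := by
    rw [pd_ker_iff (Submodule.mkQ_surjective _) 1] at h3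
    exact (pd_congr (LinearEquiv.ofEq _ _ (Submodule.ker_mkQ _))).mp h3
  rw [pd_ker_iff T.surjective_rangeRestrict 0] at h2
  have h1 : Module.Projective R (LinearMap.ker T.rangeRestrict) := pd_one_iff.mp h2
  exact Module.Projective.of_equiv
    ((LinearEquiv.ofEq _ _ (T.ker_rangeRestrict.trans hex')).trans (LinearEquiv.ofInjective _ hinj).symm)

end Dual

section Coalg

variable {A : Type u} [AddCommGroup A] [Module R A] [Coalgebra R A]

/-- Finite left subcomodules. -/
theorem exists_fg_subcomodule [IsNoetherianRing R] [Module.Flat R A] (F : Finset A) :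
    ∃ M : Submodule R A, M.FG ∧ (↑F : Set A) ⊆ M ∧
      ∀ x ∈ M, comul (R := R) x ∈ LinearMap.range (LinearMap.lTensor A M.subtype) := by
  classical
  choose S hS using fun f : A => TensorProduct.exists_finset (R := R) (comul (R := R) f)
  let N : Submodule R A := Submodule.span R ↑((F.biUnion S).image Prod.snd)
  let L : Submodule R (A ⊗[R] A) := LinearMap.range (LinearMap.lTensor A N.subtype)
  let ψ : A →ₗ[R] (A ⊗[R] A) ⧸ L := L.mkQ ∘ₗ comul
  let M : Submodule R A := LinearMap.ker ψ
  have hM : ∀ x, x ∈ M ↔ comul (R := R) x ∈ L := fun x => by simp [M, ψ]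
  have hMN : M ≤ N := by
    intro x hx
    obtain ⟨t, ht⟩ := (hM x).mp hx
    have h1 := congrArg (TensorProduct.lid R A) (Coalgebra.rTensor_counit_comul (R := R) x)
    rw [← ht, TensorProduct.lid_tmul, one_smul, LinearMap.rTensor_def] at h1
    rw [← h1]
    clear ht h1
    induction t using TensorProduct.induction_on with
    | zero => simp
    | tmul a b => simpa using N.smul_mem _ b.2
    | add p q hp hq => simpa only [map_add] using N.add_mem hp hq
  have hN : N.FG := Submodule.fg_span (Finset.finite_toSet _)
  refine ⟨M, ?_, fun f hf => ?_, fun x hx => ?_⟩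
  · have : Module.Finite R N := Module.Finite.iff_fg.mpr hN
    have : Module.Finite R M :=
      Module.Finite.of_injective (Submodule.inclusion hMN) (Submodule.inclusion_injective hMN)
    exact Module.Finite.iff_fg.mp this
  · refine (hM f).mpr ?_
    rw [hS f]
    refine Submodule.sum_mem _ fun i hi => ⟨i.1 ⊗ₜ ⟨i.2, Submodule.subset_span ?_⟩, rfl⟩
    simp only [Finset.coe_image, Set.mem_image, Finset.mem_coe, Finset.mem_biUnion]
    exact ⟨i, ⟨f, hf, hi⟩, rfl⟩
  · have hex : Function.Exact M.subtype ψ := LinearMap.exact_subtype_ker_map ψ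
    rw [← LinearMap.exact_iff.mp (Module.Flat.lTensor_exact A hex), LinearMap.mem_ker]
    obtain ⟨t, ht⟩ := (hM x).mp hx
    rw [LinearMap.lTensor_comp, LinearMap.comp_apply, ← Coalgebra.coassoc_apply, ← ht]
    clear ht
    induction t using TensorProduct.induction_on with
    | zero => simp
    | tmul a b =>
      simp only [LinearMap.lTensor_tmul, LinearMap.rTensor_tmul]
      generalize comul (R := R) a = z
      induction z using TensorProduct.induction_on with
      | zero => simp
      | tmul c d =>
        simp only [TensorProduct.assoc_tmul, LinearMap.lTensor_tmul]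
        rw [show L.mkQ (d ⊗ₜ[R] N.subtype b) = 0 from
          (Submodule.Quotient.mk_eq_zero L).mpr ⟨d ⊗ₜ b, rfl⟩, TensorProduct.tmul_zero]
      | add p q hp hq => simp only [TensorProduct.add_tmul, map_add, hp, hq, add_zero]
    | add p q hp hq => simp [hp, hq]

/-- The corepresentation on the dual of a finite left subcomodule with projective dual. -/
theorem exists_corep [IsNoetherianRing R] [Module.Flat R A] (M : Submodule R A) (hfg : M.FG)
    (hM : ∀ x ∈ M, comul (R := R) x ∈ LinearMap.range (LinearMap.lTensor A M.subtype))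
    [Module.Projective R (M →ₗ[R] R)] :
    ∃ (d : ℕ) (E : Matrix (Fin d) (Fin d) R) (C : Matrix (Fin d) (Fin d) A),
      (∀ k l, ∑ r, E k r • E r l = E k l) ∧
      (∀ k l, ∑ r, E k r • C r l = C k l) ∧
      (∀ k l, ∑ r, E r l • C k r = C k l) ∧
      (∀ k l, comul (R := R) (C k l) = ∑ r, C k r ⊗ₜ C r l) ∧
      (∀ k l, counit (R := R) (C k l) = E k l) ∧
      (M : Set A) ⊆ Submodule.span R (Set.range fun p : Fin d × Fin d => C p.1 p.2) := by
  classical
  have : Module.Finite R M := Module.Finite.iff_fg.mpr hfg
  have := Module.finitePresentation_of_finite R M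
  have : Module.Finite R (M →ₗ[R] R) := inferInstance
  -- the coaction on `M`
  have hsub : Function.Injective (LinearMap.lTensor A M.subtype) :=
    Module.Flat.lTensor_preserves_injective_linearMap _ M.injective_subtype
  have hsub2 : Function.Injective (LinearMap.lTensor A (LinearMap.lTensor A M.subtype)) :=
    Module.Flat.lTensor_preserves_injective_linearMap _ hsub
  let co : M →ₗ[R] A ⊗[R] M := (LinearEquiv.ofInjective _ hsub).symm.toLinearMap ∘ₗ
    LinearMap.codRestrict _ (comul ∘ₗ M.subtype) fun x => hM x x.2
  have hco : ∀ x : M, LinearMap.lTensor A M.subtype (co x) = comul (R := R) (x : A) := fun x =>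
    congrArg Subtype.val ((LinearEquiv.ofInjective _ hsub).apply_symm_apply
      ⟨comul (R := R) (x : A), hM x x.2⟩)
  have hcoassoc : ∀ x : M, TensorProduct.assoc R A A M (LinearMap.rTensor M comul (co x)) =
      LinearMap.lTensor A co (co x) := by
    intro x
    apply hsub2
    have h1 : ∀ z : A ⊗[R] M, LinearMap.lTensor A (LinearMap.lTensor A M.subtype)
        (TensorProduct.assoc R A A M (LinearMap.rTensor M comul z)) =
        TensorProduct.assoc R A A A (LinearMap.rTensor A comul (LinearMap.lTensor A M.subtype z)) := by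
      intro z
      induction z using TensorProduct.induction_on with
      | zero => simp
      | tmul a b =>
        simp only [LinearMap.lTensor_tmul, LinearMap.rTensor_tmul]
        generalize comul (R := R) a = z
        induction z using TensorProduct.induction_on with
        | zero => simp
        | tmul c d => simp
        | add p q hp hq => simp [TensorProduct.add_tmul, hp, hq]
      | add p q hp hq => simp [hp, hq]
    rw [h1, hco, Coalgebra.coassoc_apply, ← hco, ← LinearMap.lTensor_comp_apply,
      ← LinearMap.lTensor_comp_apply]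
    congr 2
    exact LinearMap.ext fun y => (hco y).symm
  -- dual basis
  obtain ⟨d, p, hp⟩ := Module.Finite.exists_fin' R (M →ₗ[R] R)
  obtain ⟨i, hi⟩ := Module.projective_lifting_property p LinearMap.id hp
  let lam : Fin d → (M →ₗ[R] R) := fun k => p (Pi.single k 1)
  let mu : Fin d → ((M →ₗ[R] R) →ₗ[R] R) := fun k => LinearMap.proj k ∘ₗ i
  have hbasis : ∀ f, ∑ k, mu k f • lam k = f := by
    intro f
    conv_rhs => rw [← LinearMap.id_apply (R := R) f, ← hi, LinearMap.comp_apply,
      pi_eq_sum_univ' (i f), map_sum]
    simp [mu, lam]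
  have hbasis' : ∀ (f : M →ₗ[R] R) (x : M), ∑ k, mu k f * lam k x = f x := fun f x => by
    conv_rhs => rw [← hbasis f]
    simp
  let E : Matrix (Fin d) (Fin d) R := fun k l => mu k (lam l)
  have hE : ∀ k l, ∑ r, E k r • E r l = E k l := fun k l => by
    conv_rhs => rw [show E k l = mu k (lam l) from rfl, ← hbasis (lam l), map_sum]
    simp [E, mul_comm]
  -- coefficients
  let coef : ∀ (V : Type u) [AddCommGroup V] [Module R V], Fin d →
      (V ⊗[R] (M →ₗ[R] R) →ₗ[R] V) :=
    fun V _ _ k => (TensorProduct.rid R V).toLinearMap ∘ₗ LinearMap.lTensor V (mu k)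
  have hdecomp : ∀ (V : Type u) [AddCommGroup V] [Module R V] (t : V ⊗[R] (M →ₗ[R] R)),
      ∑ k, coef V k t ⊗ₜ lam k = t := by
    intro V _ _ t
    induction t using TensorProduct.induction_on with
    | zero => simp
    | tmul v f =>
      simp only [coef, LinearMap.comp_apply, LinearMap.lTensor_tmul, LinearEquiv.coe_coe, TensorProduct.rid_tmul,
        TensorProduct.smul_tmul, ← TensorProduct.tmul_sum, hbasis]
    | add x y hx hy => simp [TensorProduct.add_tmul, Finset.sum_add_distrib, hx, hy]
  have huniq : ∀ (V : Type u) [AddCommGroup V] [Module R V] [Module.Flat R V] (x y : Fin d → V),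
      (∀ k, ∑ r, E k r • x r = x k) → (∀ k, ∑ r, E k r • y r = y k) →
      (∀ m : M, ∑ k, lam k m • x k = ∑ k, lam k m • y k) → x = y := by
    intro V _ _ _ x y hx hy h
    have : ∑ k, x k ⊗ₜ[R] lam k = ∑ k, y k ⊗ₜ lam k := by
      apply ev_bijective.1
      refine LinearMap.ext fun m => ?_
      simpa using h m
    funext k
    have := congrArg (coef V k) this
    simpa [coef, map_sum, hx k, hy k, E] using this
  let c : (M →ₗ[R] R) →ₗ[R] (M →ₗ[R] A) :=
    { toFun := fun f => (TensorProduct.rid R A).toLinearMap ∘ₗ LinearMap.lTensor A f ∘ₗ co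
      map_add' := fun f g => by simp [LinearMap.lTensor_add, LinearMap.add_comp, LinearMap.comp_add]
      map_smul' := fun r f => by simp [LinearMap.lTensor_smul, LinearMap.smul_comp, LinearMap.comp_smul] }
  let T : (M →ₗ[R] R) →ₗ[R] A ⊗[R] (M →ₗ[R] R) :=
    (LinearEquiv.ofBijective (ev A M) ev_bijective).symm.toLinearMap ∘ₗ c
  have hT : ∀ f, ev A M (T f) = c f := fun f =>
    (LinearEquiv.ofBijective (ev A M) ev_bijective).apply_symm_apply (c f)
  let C : Matrix (Fin d) (Fin d) A := fun k l => coef A k (T (lam l))
  have hC : ∀ l (m : M), c (lam l) m = ∑ k, lam k m • C k l := fun l m => by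
    rw [← hT, ← hdecomp A (T (lam l))]
    simp [C]
  have hEC : ∀ k l, ∑ r, E k r • C r l = C k l := fun k l => by
    conv_rhs => rw [show C k l = coef A k (T (lam l)) from rfl, ← hdecomp A (T (lam l))]
    simp [coef, map_sum, E, C]
  have hCE : ∀ k l, ∑ r, E r l • C k r = C k l := fun k l => by
    conv_rhs => rw [show C k l = coef A k (T (lam l)) from rfl, ← hbasis (lam l)]
    simp [map_sum, E, C]
  have hcomul : ∀ k l, comul (R := R) (C k l) = ∑ r, C k r ⊗ₜ C r l := by
    intro k l
    refine congrFun (huniq (A ⊗[R] A) (fun k => comul (C k l)) (fun k => ∑ r, C k r ⊗ₜ C r l)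
      (fun k => ?_) (fun k => ?_) fun m => ?_) k
    · conv_rhs => rw [← hEC k l]
      simp [map_sum]
    · simp only [Finset.smul_sum, TensorProduct.smul_tmul']
      rw [Finset.sum_comm]
      simp only [← TensorProduct.sum_tmul, hEC]
    · have h1 : ∀ z : A ⊗[R] M, comul (R := R) (TensorProduct.rid R A (LinearMap.lTensor A (lam l) z)) =
          LinearMap.lTensor A ((TensorProduct.rid R A).toLinearMap ∘ₗ LinearMap.lTensor A (lam l))
            (TensorProduct.assoc R A A M (LinearMap.rTensor M comul z)) := by
        intro z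
        induction z using TensorProduct.induction_on with
        | zero => simp
        | tmul a b =>
          simp only [LinearMap.lTensor_tmul, LinearMap.rTensor_tmul, TensorProduct.rid_tmul, map_smul]
          generalize comul (R := R) a = z
          induction z using TensorProduct.induction_on with
          | zero => simp
          | tmul x y => simp
          | add x y hx hy => simp [TensorProduct.add_tmul, smul_add, hx, hy]
        | add x y hx hy => simp [hx, hy]
      have h2 : ∀ z : A ⊗[R] M, LinearMap.lTensor A (c (lam l)) z =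
          ∑ r, TensorProduct.rid R A (LinearMap.lTensor A (lam r) z) ⊗ₜ C r l := by
        intro z
        induction z using TensorProduct.induction_on with
        | zero => simp
        | tmul a b => simp [hC, TensorProduct.tmul_sum, TensorProduct.smul_tmul]
        | add x y hx hy => simp [hx, hy, TensorProduct.add_tmul, Finset.sum_add_distrib]
      calc ∑ k, lam k m • comul (R := R) (C k l) = comul (R := R) (c (lam l) m) := by
            simp [hC, map_sum]
        _ = LinearMap.lTensor A ((TensorProduct.rid R A).toLinearMap ∘ₗ LinearMap.lTensor A (lam l))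
              (LinearMap.lTensor A co (co m)) := by rw [← hcoassoc]; exact h1 (co m)
        _ = LinearMap.lTensor A (c (lam l)) (co m) := by
            rw [← LinearMap.lTensor_comp_apply]; rfl
        _ = ∑ r, c (lam r) m ⊗ₜ C r l := h2 (co m)
        _ = ∑ k, lam k m • ∑ r, C k r ⊗ₜ C r l := by
            simp only [hC, TensorProduct.sum_tmul, Finset.smul_sum, TensorProduct.smul_tmul']
            exact Finset.sum_comm
  have hcounit : ∀ k l, counit (R := R) (C k l) = E k l := by
    intro k l
    refine congrFun (huniq R (fun k => counit (C k l)) (fun k => E k l) (fun k => ?_)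
      (fun k => hE k l) fun m => ?_) k
    · conv_rhs => rw [← hEC k l]
      simp [map_sum]
    · calc ∑ k, lam k m • counit (R := R) (C k l) = counit (R := R) (c (lam l) m) := by
            simp [hC, map_sum]
        _ = lam l m := ?_
        _ = ∑ k, lam k m • E k l := by
            rw [← hbasis' (lam l) m]; simp [E, mul_comm]
      have h3 : ∀ z : A ⊗[R] M, (TensorProduct.lid R A) (LinearMap.rTensor A counit
          (LinearMap.lTensor A M.subtype z)) = ((TensorProduct.lid R M) (LinearMap.rTensor M counit z) : M) := by
        intro z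
        induction z using TensorProduct.induction_on with
        | zero => simp
        | tmul a b => simp
        | add x y hx hy => simp [hx, hy]
      have h4 : ∀ z : A ⊗[R] M, counit (R := R) (TensorProduct.rid R A (LinearMap.lTensor A (lam l) z)) =
          lam l (TensorProduct.lid R M (LinearMap.rTensor M counit z)) := by
        intro z
        induction z using TensorProduct.induction_on with
        | zero => simp
        | tmul a b => simp [mul_comm]
        | add x y hx hy => simp [hx, hy]
      refine (h4 (co m)).trans (congrArg _ (Subtype.ext ?_))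
      rw [← h3, hco, Coalgebra.rTensor_counit_comul, TensorProduct.lid_tmul, one_smul]
  refine ⟨d, E, C, hE, hEC, hCE, hcomul, hcounit, fun f hf => ?_⟩
  let f0 : M →ₗ[R] R := counit ∘ₗ M.subtype
  have hf0 : c f0 ⟨f, hf⟩ = f := by
    have h5 : ∀ z : A ⊗[R] M, TensorProduct.rid R A (LinearMap.lTensor A f0 z) =
        TensorProduct.rid R A (LinearMap.lTensor A counit (LinearMap.lTensor A M.subtype z)) := by
      intro z; rw [← LinearMap.lTensor_comp_apply]
    refine (h5 (co ⟨f, hf⟩)).trans ?_
    rw [hco, Coalgebra.lTensor_counit_comul, TensorProduct.rid_tmul, one_smul]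
  rw [SetLike.mem_coe, ← hf0, ← hbasis f0]
  simp only [map_sum, map_smul, LinearMap.sum_apply, LinearMap.smul_apply, hC]
  exact Submodule.sum_mem _ fun l _ => Submodule.smul_mem _ _ (Submodule.sum_mem _ fun k _ =>
    Submodule.smul_mem _ _ (Submodule.subset_span ⟨(k, l), rfl⟩))

end Coalg

end Groth.Agent.SGA3Union
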