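import Groth.Agent.SGA3Union.SubComod

/-! Every finite comodule over a projective coalgebra on a regular ring of dimension `≤ 2` is a
quotient of a finite projective comodule. -/

universe u

open TensorProduct Coalgebra HopfRep

namespace Groth.Agent.SGA3Union

variable {R : Type u} [CommRing R]

theorem projective_ker [IsRegularRing R] (hdim : ringKrullDim R ≤ 2) {X Y : Type u} [AddCommGroup X]
    [Module R X] [AddCommGroup Y] [Module R Y] [Module.Projective R X] [Module.Finite R Y]
    [Module.Projective R Y] (T : X →ₗ[R] Y) : Module.Projective R (LinearMap.ker T) := by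
  open Groth.Agent.CAlgH3 in
  have h3 := pd_three hdim (Y ⧸ LinearMap.range T)
  open Groth.Agent.CAlgH3 in
  have h2 : PD R 2 (LinearMap.range T) := by
    rw [pd_ker_iff (Submodule.mkQ_surjective _) 1] at h3
    exact (pd_congr (LinearEquiv.ofEq _ _ (Submodule.ker_mkQ _))).mp h3
  open Groth.Agent.CAlgH3 in
  rw [pd_ker_iff T.surjective_rangeRestrict 0] at h2
  have := Groth.Agent.CAlgH3.pd_one_iff.mp h2
  exact Module.Projective.of_equiv (LinearEquiv.ofEq _ _ T.ker_rangeRestrict)

theorem eq_zero_of_forall_dual {P : Type u} [AddCommGroup P] [Module R P] [Module.Projective R P] {x : P}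
    (h : ∀ g : P →ₗ[R] R, g x = 0) : x = 0 := by
  obtain ⟨s, hs⟩ := (inferInstance : Module.Projective R P).out
  have h0 : s x = 0 := Finsupp.ext fun i => h ((Finsupp.lapply i) ∘ₗ s)
  rw [← hs x, h0, map_zero]

theorem mem_range_rTensor_of_sliceR {P C : Type u} [AddCommGroup P] [Module R P] [AddCommGroup C]
    [Module R C] [Module.Projective R C] (S : Submodule R P) (t : P ⊗[R] C)
    (h : ∀ g : C →ₗ[R] R, HopfLib.sliceR g t ∈ S) : t ∈ LinearMap.range (S.subtype.rTensor C) := by
  classical
  obtain ⟨s, hs⟩ := (inferInstance : Module.Projective R C).out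
  let g : C → (C →ₗ[R] R) := fun i => Finsupp.lapply i ∘ₗ s
  have key : ∃ T : Finset C, t = ∑ i ∈ T, HopfLib.sliceR (g i) t ⊗ₜ i := by
    obtain ⟨U, hU⟩ := TensorProduct.exists_finset (R := R) t
    refine ⟨U.biUnion fun j => (s j.2).support, ?_⟩
    set T := U.biUnion fun j => (s j.2).support with hT
    conv_lhs => rw [hU]
    conv_rhs => rw [hU]
    simp only [map_sum, TensorProduct.sum_tmul, HopfLib.sliceR_tmul]
    rw [Finset.sum_comm]
    refine Finset.sum_congr rfl fun j hj => ?_
    simp only [TensorProduct.smul_tmul, ← TensorProduct.tmul_sum]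
    congr 1
    conv_lhs => rw [← hs j.2, Finsupp.linearCombination_apply, Finsupp.sum_of_support_subset _
      (Finset.subset_biUnion_of_mem (fun j => (s j.2).support) hj) _ (by simp)]
    rfl
  obtain ⟨T, hT⟩ := key
  refine ⟨∑ i ∈ T, (⟨_, h (g i)⟩ : S) ⊗ₜ i, ?_⟩
  conv_rhs => rw [hT]
  simp [map_sum]

variable {C : Type u} [AddCommGroup C] [Module R C] [Coalgebra R C]

theorem coactAux_coassoc (P : Type u) [AddCommGroup P] [Module R P] :
    (TensorProduct.assoc R (P ⊗[R] C) C C).toLinearMap ∘ₗ (Hoch.Ind.coactAux R C P).rTensor C ∘ₗ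
        Hoch.Ind.coactAux R C P =
      (comul (R := R) (A := C)).lTensor (P ⊗[R] C) ∘ₗ Hoch.Ind.coactAux R C P :=
  (Hoch.Ind.comod R C P).coassoc

theorem coactAux_counit (P : Type u) [AddCommGroup P] [Module R P] :
    (counit (R := R) (A := C)).lTensor (P ⊗[R] C) ∘ₗ Hoch.Ind.coactAux R C P =
      (TensorProduct.mk R (P ⊗[R] C) R).flip 1 :=
  (Hoch.Ind.comod R C P).counit_comp

/-- The cofree comodule on `P`, on the plain tensor product. -/
@[reducible] noncomputable def cofree (P : Type u) [AddCommGroup P] [Module R P] : Comod R C (P ⊗[R] C) :=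
  ⟨Hoch.Ind.coactAux R C P, coactAux_coassoc P, coactAux_counit P⟩

/-- `id ⊗ ε`. -/
noncomputable def epsMap (P : Type u) [AddCommGroup P] [Module R P] : P ⊗[R] C →ₗ[R] P :=
  (TensorProduct.rid R P).toLinearMap ∘ₗ (Coalgebra.counit (R := R) (A := C)).lTensor P

attribute [local instance] cofree

variable
  (F : Type u) [AddCommGroup F] [Module R F] [Comod R C F] {n : ℕ} (q : (Fin n → R) →ₗ[R] F)

/-- `id ⊗ ε` after `q ⊗ id`. -/
noncomputable def coverMap : ((Fin n → R) ⊗[R] C) →ₗ[R] F :=
  epsMap F ∘ₗ q.rTensor C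

/-- Measures the failure of `q ⊗ id` to land in the image of `F`. -/
noncomputable def coverDefect : ((Fin n → R) ⊗[R] C) →ₗ[R] F ⊗[R] C :=
  q.rTensor C - Comod.coact ∘ₗ coverMap F q

variable {F q}

theorem coact_coverMap {x : ((Fin n → R) ⊗[R] C)} (hx : coverDefect F q x = 0) :
    Comod.coact (k := R) (A := C) (coverMap F q x) = q.rTensor C x :=
  (sub_eq_zero.mp hx).symm

theorem counit_coact' (v : F) : epsMap F (Comod.coact (k := R) (A := C) v) = v := by
  change TensorProduct.rid R F ((Coalgebra.counit (R := R) (A := C)).lTensor F (Comod.coact v)) = v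
  rw [HopfLib.counit_coact]
  simp

omit [Comod R C F] in
theorem rTensor_coact_natural (z : (Fin n → R) ⊗[R] C) :
    LinearMap.rTensor C (q.rTensor C) (Hoch.Ind.coactAux R C (Fin n → R) z) =
      Hoch.Ind.coactAux R C F (q.rTensor C z) := by
  induction z using TensorProduct.induction_on with
  | zero => simp
  | tmul p c =>
    simp only [Hoch.Ind.coactAux_tmul, LinearMap.rTensor_tmul]
    generalize comul (R := R) c = w
    induction w using TensorProduct.induction_on with
    | zero => simp
    | tmul a b => simp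
    | add a b ha hb => simp only [TensorProduct.tmul_add, map_add, ha, hb]
  | add a b ha hb => simp [ha, hb]

theorem coactAux_coact (v : F) :
    Hoch.Ind.coactAux R C F (Comod.coact v) =
      LinearMap.rTensor C (Comod.coact (k := R) (A := C)) (Comod.coact v) := by
  rw [Hoch.Ind.coactAux, LinearMap.comp_apply, LinearEquiv.coe_coe, LinearEquiv.symm_apply_eq]
  exact (LinearMap.congr_fun (Comod.coassoc (k := R) (A := C) (V := F)) v).symm

theorem rTensor_coverMap_coact {x : ((Fin n → R) ⊗[R] C)} (hx : coverDefect F q x = 0) :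
    (coverMap F q).rTensor C (Comod.coact (k := R) (A := C) x) =
      Comod.coact (k := R) (A := C) (coverMap F q x) := by
  change LinearMap.rTensor C (epsMap F ∘ₗ q.rTensor C)
    (Hoch.Ind.coactAux R C (Fin n → R) x) = _
  rw [LinearMap.rTensor_comp_apply, rTensor_coact_natural, ← coact_coverMap hx, coactAux_coact,
    ← LinearMap.rTensor_comp_apply]
  conv_rhs => rw [← LinearMap.rTensor_id_apply (R := R) C F (Comod.coact (coverMap F q x))]
  congr 2
  exact LinearMap.ext counit_coact'

theorem isSubcomod_ker_coverDefect [Module.Flat R C] :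
    IsSubcomod (k := R) (A := C) (LinearMap.ker (coverDefect (C := C) F q)) := by
  intro x hx
  rw [← LinearMap.exact_iff.mp (Module.Flat.rTensor_exact C (LinearMap.exact_subtype_ker_map _)),
    LinearMap.mem_ker, coverDefect, LinearMap.rTensor_sub, LinearMap.sub_apply,
    LinearMap.rTensor_comp_apply, rTensor_coverMap_coact hx, sub_eq_zero]
  change LinearMap.rTensor C (q.rTensor C) (Hoch.Ind.coactAux R C (Fin n → R) x) = _
  rw [rTensor_coact_natural, ← coact_coverMap hx, coactAux_coact]

/-- A finite subcomodule of a cofree comodule on which `coverMap` is a surjective comodule map. -/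
theorem exists_cover [IsNoetherianRing R] [Module.Flat R C] [Module.Finite R F]
    (hq : Function.Surjective q) :
    ∃ W : Submodule R (((Fin n → R) ⊗[R] C)), W.FG ∧ IsSubcomod (k := R) (A := C) W ∧
      W ≤ LinearMap.ker (coverDefect (C := C) F q) ∧ ∀ f, ∃ x ∈ W, coverMap F q x = f := by
  classical
  obtain ⟨S, hS⟩ := (Module.Finite.fg_top : (⊤ : Submodule R F).FG)
  choose g hg using fun f : F => LinearMap.rTensor_surjective C hq (Comod.coact (k := R) (A := C) f)
  have hgq : ∀ f, coverMap F q (g f) = f := fun f => by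
    change epsMap F (q.rTensor C (g f)) = f
    rw [hg, counit_coact']
  have hgd : ∀ f, g f ∈ LinearMap.ker (coverDefect (C := C) F q) := fun f => by
    rw [LinearMap.mem_ker, coverDefect, LinearMap.sub_apply, LinearMap.comp_apply, hgq, hg, sub_self]
  let K := LinearMap.ker (coverDefect (C := C) F q)
  let cK : Comod R C K := ComodSub.Comod.restr inferInstance K isSubcomod_ker_coverDefect
  obtain ⟨W, hW1, hW2, hW3⟩ := @exists_fg_isSubcomod R _ C _ _ _ K _ _ _ _ cK
    (S.image fun f => (⟨g f, hgd f⟩ : K))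
  refine ⟨W.map K.subtype, hW1.map _, @HopfLib.isSubcomod_map R _ C _ _ _ K _ _ cK _ _ _ _ K.subtype
    (ComodSub.isComodHom_subtype _ K _) W hW3, Submodule.map_subtype_le K W, fun f => ?_⟩
  have hmem : f ∈ (W.map K.subtype).map (coverMap F q) := by
    refine (show Submodule.span R (↑S : Set F) ≤ _ from ?_) (hS ▸ Submodule.mem_top)
    refine Submodule.span_le.mpr fun s hs => ?_
    exact ⟨g s, ⟨⟨g s, hgd s⟩, hW2 (Finset.mem_image_of_mem _ hs), rfl⟩, hgq s⟩
  exact hmem

theorem isComodHom_coverMap [Module.Flat R C] {W : Submodule R (((Fin n → R) ⊗[R] C))}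
    (hW : IsSubcomod (k := R) (A := C) W) (hle : W ≤ LinearMap.ker (coverDefect (C := C) F q)) :
    @Hoch.IsComodHom R _ C _ _ _ W _ _ (ComodSub.Comod.restr inferInstance W hW) F _ _ _
      (coverMap F q ∘ₗ W.subtype) := by
  refine LinearMap.ext fun w => ?_
  rw [LinearMap.rTensor_comp]
  simp only [LinearMap.comp_apply, ComodSub.restr_coact_coe]
  exact (rTensor_coverMap_coact (hle w.2)).symm

theorem exists_projective_cover [IsRegularRing R] [Module.Projective R C] (hdim : ringKrullDim R ≤ 2)
    [Module.Finite R F] (hq : Function.Surjective q)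
    {ι : Type u} (j : F →ₗ[R] (ι →₀ R)) (hj : Function.Injective j) :
    ∃ W : Submodule R (((Fin n → R) ⊗[R] C)), Module.Finite R W ∧ Module.Projective R W ∧
      IsSubcomod (k := R) (A := C) W ∧
      W ≤ LinearMap.ker (coverDefect (C := C) F q) ∧ ∀ f, ∃ x ∈ W, coverMap F q x = f := by
  classical
  obtain ⟨W, hfg, hW, hWle, hsurj⟩ := exists_cover (C := C) hq
  let P := ((Fin n → R) ⊗[R] C)
  have : Module.Projective R P := inferInstance
  obtain ⟨s, hs⟩ := (inferInstance : Module.Projective R P).out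
  let S : Submodule R P := ⨅ (g : P →ₗ[R] R) (_ : W ≤ LinearMap.ker g), LinearMap.ker g
  have hS : ∀ x, x ∈ S ↔ ∀ g : P →ₗ[R] R, (∀ w ∈ W, g w = 0) → g x = 0 := fun x => by
    simp [S, Submodule.mem_iInf, SetLike.le_def]
  have hWS : W ≤ S := fun w hw => (hS w).mpr fun g hg => hg w hw
  have hScomod : IsSubcomod (k := R) (A := C) S := fun x hx =>
    mem_range_rTensor_of_sliceR S _ fun g => (hS _).mpr fun l hl =>
      (hS x).mp hx (l ∘ₗ HopfLib.hit g) fun w hw => hl _ (HopfLib.IsSubcomod.hit_mem hW g hw)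
  have hSle : S ≤ LinearMap.ker (coverDefect (C := C) F q) := fun x hx => by
    have : Module.Projective R ((ι →₀ R) ⊗[R] C) := inferInstance
    apply Module.Flat.rTensor_preserves_injective_linearMap (M := C) j hj
    rw [map_zero]
    refine eq_zero_of_forall_dual (R := R) (P := (ι →₀ R) ⊗[R] C) fun g => ?_
    exact (hS x).mp hx (g ∘ₗ j.rTensor C ∘ₗ coverDefect F q) fun w hw => by
      simp [LinearMap.mem_ker.mp (hWle hw)]
  obtain ⟨G, hG⟩ := hfg
  let T : Finset P := G.biUnion fun w => (s w).support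
  let incl : (T → R) →ₗ[R] P :=
    Finsupp.linearCombination R id ∘ₗ ∑ i : T, Finsupp.lsingle (i : P) ∘ₗ LinearMap.proj i
  let res : P →ₗ[R] (T → R) := LinearMap.pi fun i : T => Finsupp.lapply (i : P) ∘ₗ s
  have hsupp : ∀ x ∈ S, ∀ i, i ∉ T → s x i = 0 := by
    intro x hx i hi
    refine (hS x).mp hx (Finsupp.lapply i ∘ₗ s) fun w hw => ?_
    have : W ≤ LinearMap.ker (Finsupp.lapply i ∘ₗ s) := by
      rw [← hG, Submodule.span_le]
      intro y hy
      simp only [SetLike.mem_coe, LinearMap.mem_ker, LinearMap.comp_apply, Finsupp.lapply_apply]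
      by_contra h
      exact hi (Finset.mem_biUnion.mpr ⟨y, hy, Finsupp.mem_support_iff.mpr h⟩)
    exact this hw
  have hres : ∀ x ∈ S, incl (res x) = x := by
    intro x hx
    conv_rhs => rw [← hs x]
    simp only [incl, res, LinearMap.comp_apply, LinearMap.sum_apply, LinearMap.proj_apply,
      LinearMap.pi_apply, Finsupp.lapply_apply, Finsupp.lsingle_apply]
    congr 1
    refine Finsupp.ext fun i => ?_
    rw [Finset.sum_coe_sort T fun k => Finsupp.single k (s x k), Finsupp.finsetSum_apply]
    simp only [Finsupp.single_apply]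
    by_cases hi : i ∈ T
    · simp [hi]
    · simp [hi, hsupp x hx i hi]
  let Z : Submodule R ((T → R) →ₗ[R] R) := (W.map res).dualAnnihilator
  obtain ⟨r, gs, hgs⟩ := Module.Finite.exists_fin' R Z
  let Tm : (T → R) →ₗ[R] (Fin r → R) := LinearMap.pi fun i => (gs (Pi.single i 1) : (T → R) →ₗ[R] R)
  have hTm : ∀ z, z ∈ LinearMap.ker Tm ↔ ∀ g ∈ Z, g z = 0 := by
    intro z
    refine ⟨fun h g hg => ?_, fun h => funext fun i => h _ (gs (Pi.single i 1)).2⟩
    obtain ⟨v, hv⟩ := hgs ⟨g, hg⟩
    have hv' : g = ∑ i, v i • (gs (Pi.single i 1) : (T → R) →ₗ[R] R) := by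
      rw [← show (gs v : (T → R) →ₗ[R] R) = g from congrArg Subtype.val hv]
      conv_lhs => rw [pi_eq_sum_univ' v, map_sum]
      simp [map_smul]
    rw [hv', LinearMap.sum_apply]
    refine Finset.sum_eq_zero fun i _ => ?_
    have : (gs (Pi.single i 1) : (T → R) →ₗ[R] R) z = 0 := congrFun (LinearMap.mem_ker.mp h) i
    simp [this]
  have h1 : ∀ x ∈ S, res x ∈ LinearMap.ker Tm := fun x hx => (hTm _).mpr fun g hg =>
    (hS x).mp hx (g ∘ₗ res) fun w hw =>
      (Submodule.mem_dualAnnihilator g).mp hg _ (Submodule.mem_map_of_mem hw)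
  have h2 : ∀ z ∈ LinearMap.ker Tm, incl z ∈ S := fun z hz => (hS _).mpr fun g hg =>
    (hTm z).mp hz (g ∘ₗ incl) ((Submodule.mem_dualAnnihilator _).mpr fun y hy => by
      obtain ⟨w, hw, rfl⟩ := hy
      simp [hres w (hWS hw), hg w hw])
  have := projective_ker hdim Tm
  let i' : S →ₗ[R] LinearMap.ker Tm := LinearMap.codRestrict _ (res ∘ₗ S.subtype) fun x => h1 x x.2
  let p' : LinearMap.ker Tm →ₗ[R] S :=
    LinearMap.codRestrict _ (incl ∘ₗ (LinearMap.ker Tm).subtype) fun z => h2 z z.2
  have hpi : p' ∘ₗ i' = LinearMap.id := LinearMap.ext fun x => Subtype.ext (hres x x.2)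
  refine ⟨S, Module.Finite.of_surjective p' fun x => ⟨i' x, LinearMap.congr_fun hpi x⟩,
    Module.Projective.of_split i' p' hpi, hScomod, hSle, fun f => ?_⟩
  obtain ⟨x, hx, hf⟩ := hsurj f
  exact ⟨x, hWS hx, hf⟩

end Groth.Agent.SGA3Union
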